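import Cfsg.Agent.Lib.Schur.LinearRel
import Cfsg.Agent.Lib.LinGroup.Simple
import Cfsg.Agent.Lib.Orth.Siegel
import Cfsg.Agent.Lib.LieRecog.SignedOmega

/-!
The copies of `SL_l(q)` in `Ω⁺_{2l}(q)`, one for every choice of a sign at each index, and the root elements
of type `D` inside them.
-/

set_option autoImplicit false
set_option linter.unusedSectionVars false

namespace Cfsg.Agent.Lib.Schur.PlusRoot

open Matrix
open Cfsg.Agent.Lib.Orth (app isometry_ext)
open Cfsg.Agent.Lib.LieRecog (SIdx supp bar eO xO coe_xO xO_mem eO_mulVec eO_flip xO_orth elN coe_elN)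
open scoped commutatorElement

universe u

variable {l : ℕ}

/-- The sign of a signed index. -/
def sg : SIdx l → Bool := Sum.elim (fun _ => false) (fun _ => true)

/-- The signed index of `i` in the section `s`. -/
def pt (s : Fin l → Bool) (i : Fin l) : SIdx l := if s i then Sum.inr i else Sum.inl i

@[simp] theorem supp_inl (i : Fin l) : supp (Sum.inl i : SIdx l) = i := rfl

@[simp] theorem supp_inr (i : Fin l) : supp (Sum.inr i : SIdx l) = i := rfl

@[simp] theorem supp_pt (s : Fin l → Bool) (i : Fin l) : supp (pt s i) = i := by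
  unfold pt; split_ifs <;> rfl

theorem pt_eq {s : Fin l → Bool} {a : SIdx l} (h : s (supp a) = sg a) : pt s (supp a) = a := by
  cases a <;> simp_all [pt, sg]

theorem sg_pt (s : Fin l → Bool) (i : Fin l) : sg (pt s i) = s i := by
  unfold pt sg; split_ifs <;> simp_all

theorem sg_swap (a : SIdx l) : sg a.swap = !sg a := by cases a <;> rfl

theorem swap_ne (a : SIdx l) : a.swap ≠ a := by cases a <;> simp

theorem eq_pt_or (s : Fin l → Bool) (a : SIdx l) : a = pt s (supp a) ∨ a = (pt s (supp a)).swap :=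
  Cfsg.Agent.Lib.LieRecog.eq_or_eq_bar (by simp)

theorem pt_congr {s s' : Fin l → Bool} {i : Fin l} (h : s i = s' i) : pt s i = pt s' i := by
  simp [pt, h]

theorem pt_not (s : Fin l → Bool) (i : Fin l) : pt (fun k => !s k) i = (pt s i).swap := by
  unfold pt; cases h : s i <;> simp [h]

/-- Flipping the signs along a section. -/
def flipS (s : Fin l → Bool) : Equiv.Perm (SIdx l) :=
  Function.Involutive.toPerm (fun p => if s (supp p) then p.swap else p) fun p => by
    show (if s (supp (if s (supp p) then p.swap else p)) then _ else _) = p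
    by_cases h : s (supp p) <;> simp [h]

theorem flipS_inl (s : Fin l → Bool) (i : Fin l) : flipS s (Sum.inl i) = pt s i := by
  show (if s i then (Sum.inl i : SIdx l).swap else Sum.inl i) = _
  unfold pt; split_ifs <;> rfl

theorem flipS_inr (s : Fin l → Bool) (i : Fin l) : flipS s (Sum.inr i) = (pt s i).swap := by
  show (if s i then (Sum.inr i : SIdx l).swap else Sum.inr i) = _
  unfold pt; split_ifs <;> rfl

theorem flipS_symm (s : Fin l → Bool) : (flipS s).symm = flipS s :=
  Function.Involutive.toPerm_symm _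

variable {F : Type u} [Field F]

/-- The hyperbolic form. -/
abbrev Qp (l : ℕ) (F : Type u) [Field F] : QuadraticForm F (SIdx l → F) :=
  Cfsg.Agent.Lib.Classical.plusForm l F

/-- Its isometry group. -/
abbrev O (l : ℕ) (F : Type u) [Field F] : Subgroup (Matrix.GeneralLinearGroup (SIdx l) F) :=
  Cfsg.isometryGroup F ⇑(Qp l F)

/-- Its commutator subgroup. -/
abbrev Om (l : ℕ) (F : Type u) [Field F] : Subgroup ↥(O l F) := Cfsg.Omega F ⇑(Qp l F)

theorem Qp_apply (v : SIdx l → F) : Qp l F v = ∑ i, v (Sum.inl i) * v (Sum.inr i) :=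
  congrFun (Cfsg.Agent.Lib.Classical.coe_plusForm l) v

theorem Qp_pt (s : Fin l → Bool) (v : SIdx l → F) :
    Qp l F v = ∑ i, v (pt s i) * v (pt s i).swap := by
  rw [Qp_apply]
  refine Finset.sum_congr rfl fun i _ => ?_
  unfold pt; split_ifs <;> simp [mul_comm]

/-- The root element. -/
noncomputable def U (a b : SIdx l) (t : F) : ↥(O l F) :=
  if h : supp a ≠ supp b then
    ⟨xO a b t, by
      show _ ∈ Cfsg.isometryGroup F ⇑(Cfsg.Agent.Lib.Classical.plusForm l F)
      rw [Cfsg.Agent.Lib.Classical.coe_plusForm]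
      exact xO_mem h t⟩
  else 1

theorem coe_U {a b : SIdx l} (h : supp a ≠ supp b) (t : F) : (U a b t).1 = xO a b t := by
  rw [U, dif_pos h]

theorem app_U {a b : SIdx l} (h : supp a ≠ supp b) (t : F) (v : SIdx l → F) :
    app (U a b t) v = v + Pi.single a (t * v b) + Pi.single b.swap (-(t * v a.swap)) := by
  show ((U a b t).1 : Matrix (SIdx l) (SIdx l) F) *ᵥ v = _
  rw [coe_U h, coe_xO h, eO_mulVec]

theorem U_flip {a b : SIdx l} (h : supp a ≠ supp b) (t : F) : U (bar b) (bar a) (-t) = U a b t := by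
  have h' : supp (bar b) ≠ supp (bar a) := by simpa using h.symm
  refine Subtype.ext (Units.ext ?_)
  rw [coe_U h', coe_U h, coe_xO h', coe_xO h, eO_flip]

theorem U_orth {a b : SIdx l} (h : supp a ≠ supp b) (s t : F) : Commute (U a b s) (U a (bar b) t) :=
  Subtype.ext (by
    show (U a b s).1 * (U a (bar b) t).1 = (U a (bar b) t).1 * (U a b s).1
    rw [coe_U h, coe_U (show supp a ≠ supp (bar b) by simpa using h)]
    exact xO_orth h s t)

/-- The matrix of `A` acting on the section `s`. -/
def leviMat (s : Fin l → Bool) (A : SpecialLinearGroup (Fin l) F) : Matrix (SIdx l) (SIdx l) F :=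
  (fromBlocks (A : Matrix (Fin l) (Fin l) F) 0 0
    ((A⁻¹ : SpecialLinearGroup (Fin l) F) : Matrix (Fin l) (Fin l) F)ᵀ).submatrix (flipS s) (flipS s)

theorem leviMat_mul (s : Fin l → Bool) (A B : SpecialLinearGroup (Fin l) F) :
    leviMat s (A * B) = leviMat s A * leviMat s B := by
  rw [leviMat, leviMat, leviMat, submatrix_mul_equiv, fromBlocks_multiply]
  simp [transpose_mul]

theorem leviMat_one (s : Fin l → Bool) : leviMat s (1 : SpecialLinearGroup (Fin l) F) = 1 := by
  simp [leviMat]

theorem leviMat_mulVec (s : Fin l → Bool) (A : SpecialLinearGroup (Fin l) F) (v : SIdx l → F) (i : Fin l) :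
    (leviMat s A *ᵥ v) (pt s i) = ((A : Matrix (Fin l) (Fin l) F) *ᵥ fun j => v (pt s j)) i ∧
    (leviMat s A *ᵥ v) (pt s i).swap =
      ((fun j => v (pt s j).swap) ᵥ* ((A⁻¹ : SpecialLinearGroup (Fin l) F) : Matrix (Fin l) (Fin l) F)) i := by
  rw [leviMat, submatrix_mulVec_equiv, flipS_symm, ← mulVec_transpose]
  have h1 : flipS s (pt s i) = Sum.inl i := by
    rw [← flipS_inl]; exact Function.Involutive.toPerm_involutive _ _
  have h2 : flipS s (pt s i).swap = Sum.inr i := by
    rw [← flipS_inr]; exact Function.Involutive.toPerm_involutive _ _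
  simp only [Function.comp_apply, h1, h2, fromBlocks_mulVec, Sum.elim_inl, Sum.elim_inr, zero_mulVec,
    add_zero, zero_add]
  rw [show (fun j => v (pt s j)) = (v ∘ flipS s) ∘ Sum.inl from funext fun j => by simp [flipS_inl],
    show (fun j => v (pt s j).swap) = (v ∘ flipS s) ∘ Sum.inr from funext fun j => by simp [flipS_inr]]
  exact ⟨rfl, rfl⟩

theorem leviMat_preserves (s : Fin l → Bool) (A : SpecialLinearGroup (Fin l) F) (v : SIdx l → F) :
    Qp l F (leviMat s A *ᵥ v) = Qp l F v := by
  rw [Qp_pt s, Qp_pt s]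
  simp only [(leviMat_mulVec s A v _).1, (leviMat_mulVec s A v _).2]
  set u : Fin l → F := fun j => v (pt s j)
  set w : Fin l → F := fun j => v (pt s j).swap
  calc _ = (w ᵥ* ((A⁻¹ : SpecialLinearGroup (Fin l) F) : Matrix (Fin l) (Fin l) F)) ⬝ᵥ
        ((A : Matrix (Fin l) (Fin l) F) *ᵥ u) := by
          rw [dotProduct_comm]; rfl
    _ = w ⬝ᵥ u := by
          rw [← dotProduct_mulVec, mulVec_mulVec,
            show ((A⁻¹ : SpecialLinearGroup (Fin l) F).1 * A.1) = 1 from congrArg Subtype.val (inv_mul_cancel A),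
            one_mulVec]
    _ = _ := by rw [dotProduct_comm]; rfl

/-- `SL_l` acting on the section `s`. -/
def leviS (s : Fin l → Bool) : SpecialLinearGroup (Fin l) F →* ↥(O l F) where
  toFun A := ⟨⟨leviMat s A, leviMat s A⁻¹, by rw [← leviMat_mul, mul_inv_cancel, leviMat_one],
    by rw [← leviMat_mul, inv_mul_cancel, leviMat_one]⟩, fun v _ => leviMat_preserves s A v⟩
  map_one' := Subtype.ext (Units.ext (leviMat_one s))
  map_mul' A B := Subtype.ext (Units.ext (leviMat_mul s A B))

theorem app_leviS (s : Fin l → Bool) (A : SpecialLinearGroup (Fin l) F) (v : SIdx l → F) (i : Fin l) :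
    app (leviS s A) v (pt s i) = ((A : Matrix (Fin l) (Fin l) F) *ᵥ fun j => v (pt s j)) i ∧
    app (leviS s A) v (pt s i).swap =
      ((fun j => v (pt s j).swap) ᵥ* ((A⁻¹ : SpecialLinearGroup (Fin l) F) : Matrix (Fin l) (Fin l) F)) i :=
  leviMat_mulVec s A v i

theorem ext_pt (s : Fin l → Bool) {v w : SIdx l → F} (h1 : ∀ i, v (pt s i) = w (pt s i))
    (h2 : ∀ i, v (pt s i).swap = w (pt s i).swap) : v = w := by
  funext p
  rcases eq_pt_or s p with h | h <;> rw [h]
  · exact h1 _
  · exact h2 _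

theorem leviS_tvx (s : Fin l → Bool) {i j : Fin l} (h : i ≠ j) (t : F) :
    leviS s (tvx i j t) = U (pt s i) (pt s j) t := by
  refine isometry_ext fun v => ext_pt s (fun k => ?_) fun k => ?_
  · rw [(app_leviS s _ v k).1, app_U (by simpa using h), tvx, tv_mulVec (tvx_dot h t)]
    have hk : pt s k ≠ (pt s j).swap := fun e => by
      obtain rfl : k = j := by simpa using congrArg supp e
      exact swap_ne _ e.symm
    by_cases hki : k = i
    · subst hki; simp [Pi.single_eq_of_ne hk, mul_comm]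
    · have : pt s k ≠ pt s i := fun e => hki (by simpa using congrArg supp e)
      simp [Pi.single_eq_of_ne hk, Pi.single_eq_of_ne this, hki]
  · rw [(app_leviS s _ v k).2, app_U (by simpa using h), tvx_inv h, tvx, vecMul_tv (tvx_dot h (-t))]
    have hk : (pt s k).swap ≠ pt s i := fun e => by
      obtain rfl : k = i := by simpa using congrArg supp e
      exact swap_ne _ e
    by_cases hkj : k = j
    · subst hkj; simp [Pi.single_eq_of_ne hk, mul_comm]
    · have : (pt s k).swap ≠ (pt s j).swap := fun e => hkj (by simpa using congrArg supp e)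
      simp [Pi.single_eq_of_ne hk, Pi.single_eq_of_ne this, hkj]

/-- The eigenvalue of a diagonal element of the section `s` at a signed index. -/
def dEff (s : Fin l → Bool) (d : Fin l → F) (p : SIdx l) : F :=
  if sg p = s (supp p) then d (supp p) else (d (supp p))⁻¹

theorem ne_zero_of_prod {d : Fin l → F} (h : ∏ i, d i = 1) (i : Fin l) : d i ≠ 0 := fun h0 => by
  rw [Finset.prod_eq_zero (Finset.mem_univ i) h0] at h; exact zero_ne_one h

theorem prod_inv_one {d : Fin l → F} (h : ∏ i, d i = 1) : ∏ i, (d⁻¹ : Fin l → F) i = 1 := by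
  simp [Finset.prod_inv_distrib, h]

theorem dMk_mul {d e : Fin l → F} (h : ∏ i, d i = 1) (h' : ∏ i, e i = 1) :
    dMk d h * dMk e h' = dMk (d * e) (by simp [Finset.prod_mul_distrib, h, h']) := by
  refine sl_ext ?_
  show diagonal d * diagonal e = diagonal (d * e)
  rw [diagonal_mul_diagonal]; rfl

theorem dMk_comm {d e : Fin l → F} (h : ∏ i, d i = 1) (h' : ∏ i, e i = 1) :
    Commute (dMk d h) (dMk e h') := by
  refine sl_ext ?_
  show diagonal d * diagonal e = diagonal e * diagonal d
  rw [diagonal_mul_diagonal, diagonal_mul_diagonal]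
  simp [mul_comm]

theorem dMk_inv {d : Fin l → F} (h : ∏ i, d i = 1) : (dMk d h)⁻¹ = dMk d⁻¹ (prod_inv_one h) := by
  refine inv_eq_of_mul_eq_one_right (sl_ext ?_)
  show diagonal d * diagonal d⁻¹ = 1
  rw [diagonal_mul_diagonal, ← diagonal_one]
  congr 1
  funext i
  exact mul_inv_cancel₀ (ne_zero_of_prod h i)

theorem app_leviS_dMk (s : Fin l → Bool) {d : Fin l → F} (h : ∏ i, d i = 1) (v : SIdx l → F) (p : SIdx l) :
    app (leviS s (dMk d h)) v p = dEff s d p * v p := by
  rcases eq_pt_or s p with e | e <;> rw [e]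
  · rw [(app_leviS s _ v _).1]
    show (diagonal d *ᵥ _) _ = _
    rw [mulVec_diagonal, dEff, supp_pt, sg_pt, if_pos rfl]
  · rw [(app_leviS s _ v _).2, dMk_inv h]
    show (_ ᵥ* diagonal d⁻¹) _ = _
    rw [vecMul_diagonal, dEff, sg_swap, sg_pt, Cfsg.Agent.Lib.LieRecog.supp_swap, supp_pt, mul_comm]
    simp

theorem tvx_eq_elN {i j : Fin l} (h : i ≠ j) (t : F) : tvx i j t = elN i j t := by
  refine sl_ext ?_
  show (tvx i j t).1 = (elN i j t).1
  rw [coe_elN h, tvx, coe_tv (tvx_dot h t)]
  congr 1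
  ext x y
  simp [vecMulVec_apply, Matrix.single_apply, Pi.single_apply, ite_and, mul_comm, eq_comm]
  split_ifs <;> rfl

variable [Finite F]

theorem leviS_mem (hl : 3 ≤ l) (s : Fin l → Bool) (A : SpecialLinearGroup (Fin l) F) :
    leviS s A ∈ Om l F := by
  have h : A ∈ commutator (SpecialLinearGroup (Fin l) F) := by
    rw [LinGroup.commutator_SL_fin_eq_top (by omega) (by omega)]; exact Subgroup.mem_top A
  have h' := Subgroup.mem_map_of_mem (leviS s) h
  rw [commutator_def, Subgroup.map_commutator] at h'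
  exact Subgroup.commutator_mono le_top le_top h'

/-- `SL_l` in `Ω` along a section. -/
def phi (hl : 3 ≤ l) (s : Fin l → Bool) : SpecialLinearGroup (Fin l) F →* ↥(Om l F) :=
  (leviS s).codRestrict _ (leviS_mem hl s)

/-- A section through `a` and `b`. -/
def sec2 (a b : SIdx l) : Fin l → Bool :=
  Function.update (Function.update (fun _ => false) (supp b) (sg b)) (supp a) (sg a)

theorem sec2_left (a b : SIdx l) : pt (sec2 a b) (supp a) = a := pt_eq (by simp [sec2])

theorem sec2_right {a b : SIdx l} (h : supp a ≠ supp b) : pt (sec2 a b) (supp b) = b :=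
  pt_eq (by simp [sec2, Function.update_of_ne h.symm])

theorem U_mem (hl : 3 ≤ l) (a b : SIdx l) (t : F) : U a b t ∈ Om l F := by
  by_cases h : supp a ≠ supp b
  · have e := leviS_tvx (sec2 a b) h t
    rw [sec2_left, sec2_right h] at e
    exact e ▸ leviS_mem hl _ _
  · rw [U, dif_neg h]; exact one_mem _

/-- The root element inside `Ω`. -/
noncomputable def UO (hl : 3 ≤ l) (a b : SIdx l) (t : F) : ↥(Om l F) := ⟨U a b t, U_mem hl a b t⟩

theorem phi_tvx (hl : 3 ≤ l) (s : Fin l → Bool) {i j : Fin l} (h : i ≠ j) (t : F) :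
    phi hl s (tvx i j t) = UO hl (pt s i) (pt s j) t :=
  Subtype.ext (leviS_tvx s h t)

/-- `Ω` is generated by its root elements. -/
theorem closure_UO (hl : 3 ≤ l) :
    Subgroup.closure {x : ↥(Om l F) | ∃ a b t, supp a ≠ supp b ∧ x = UO hl a b t} = ⊤ := by
  obtain ⟨k, rfl⟩ : ∃ k, l = k + 3 := ⟨l - 3, by omega⟩
  set K := Subgroup.closure {x : ↥(Om (k + 3) F) | ∃ a b t, supp a ≠ supp b ∧ x = UO hl a b t} with hK
  let f : ↥(Om (k + 3) F) →* GL (SIdx (k + 3)) F := (O (k + 3) F).subtype.comp (Om (k + 3) F).subtype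
  rw [eq_top_iff]
  intro g _
  have hmem : f g ∈ Cfsg.Agent.Lib.LieRecog.elO (k + 3) F := by
    have h := Cfsg.Agent.Lib.LieRecog.Omega_le_elO (F := F) k
    rw [← Cfsg.Agent.Lib.Classical.coe_plusForm] at h
    exact h g.2
  have hle : Cfsg.Agent.Lib.LieRecog.elO (k + 3) F ≤ K.map f := by
    refine (Subgroup.closure_le _).2 ?_
    rintro _ ⟨a, b, t, h, rfl⟩
    exact ⟨UO hl a b t, Subgroup.subset_closure ⟨a, b, t, h, rfl⟩, coe_U h t⟩
  obtain ⟨y, hy, e⟩ := hle hmem
  rwa [← show y = g from Subtype.ext (Subtype.ext e)]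

end Cfsg.Agent.Lib.Schur.PlusRoot
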