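import Cfsg.Agent.Lib.Schur.PlusRoot.Lifts

/-!
The kernel of a perfect central extension of `Ω⁺_{2l}(q)` lies in the lifted torus and has at most two elements.
-/

set_option autoImplicit false
set_option linter.unusedSectionVars false

namespace Cfsg.Agent.Lib.Schur.PlusRoot

open Matrix
open Cfsg.Agent.Lib.Orth (app app_one app_mul isometry_ext)
open Cfsg.Agent.Lib.LieRecog (SIdx supp bar eO DSys)
open Cfsg.Agent.Lib.SL2
open Cfsg.Agent.Lib.BoundedPresentation

universe u w

variable {l : ℕ} {F : Type u} [Field F] [Fintype F]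

theorem prod_dv {i j : Fin l} (h : i ≠ j) (v : Fˣ) : ∏ k, SLStd.dv i j v k = 1 := by
  rw [Finset.prod_eq_mul i j h (fun c _ hc => by simp [SLStd.dv, hc.1, hc.2]) (by simp) (by simp)]
  simp [SLStd.dv, h.symm]

theorem emb_diag_eq {i j : Fin l} (h : i ≠ j) (v : Fˣ) :
    (SLStd.emb h (SL2.diag v) : SpecialLinearGroup (Fin l) F) = dMk (SLStd.dv i j v) (prod_dv h v) :=
  sl_ext (SLStd.emb_diag h v)

theorem emb_upper_eq {i j : Fin l} (h : i ≠ j) (t : F) :
    (SLStd.emb h (upper t) : SpecialLinearGroup (Fin l) F) = tvx i j t := by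
  rw [tvx_eq_elN h]
  exact Subtype.ext ((SLStd.emb_upper h t).trans (Cfsg.Agent.Lib.LieRecog.coe_elN h t).symm)

theorem emb_lower_eq {i j : Fin l} (h : i ≠ j) (t : F) :
    (SLStd.emb h (lower t) : SpecialLinearGroup (Fin l) F) = tvx j i t := by
  rw [tvx_eq_elN h.symm]
  exact Subtype.ext ((SLStd.emb_lower h t).trans (Cfsg.Agent.Lib.LieRecog.coe_elN h.symm t).symm)

namespace Ext

variable {Γ : Type w} [Group Γ] (E : Ext l F Γ)

/-- A copy of `SL₂` in a copy of `SL_l`. -/
theorem root_eq_psi (s : Fin l → Bool) {a b : SIdx l} (ha : s (supp a) = sg a) (hb : s (supp b) = sg b)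
    (h : supp a ≠ supp b) : E.dsys.root a b = (E.psi s).comp (SLStd.emb h) := by
  refine DSys.hom_ext (fun t => ?_) (fun t => ?_)
  · rw [E.dsys.root_upper h, MonoidHom.comp_apply, emb_upper_eq h]
    exact E.psi_eq_X' s ha hb h t
  · rw [E.dsys.root_lower h, MonoidHom.comp_apply, emb_lower_eq h]
    exact E.psi_eq_X' s hb ha h.symm t

/-- Lifted torus elements commute. -/
theorem diag_comm {a b c d : SIdx l} (hab : supp a ≠ supp b) (hcd : supp c ≠ supp d) (v v' : Fˣ) :
    Commute (E.dsys.root a b (SL2.diag v)) (E.dsys.root c d (SL2.diag v')) := by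
  obtain ⟨s, h⟩ := DSys.Scl.conj_root E.dsys (E.dsys.conj_diag hab v hcd) hcd hcd
  have e := h (SL2.diag v')
  rw [DSys.sc2_diag, mul_inv_eq_iff_eq_mul] at e
  exact e

variable (l) in
/-- The last but one index. -/
def pe (h : 4 ≤ l) : Fin l := ⟨l - 2, by omega⟩

variable (l) in
/-- The last index. -/
def qe (h : 4 ≤ l) : Fin l := ⟨l - 1, by omega⟩

theorem pe_ne_qe (h : 4 ≤ l) : pe l h ≠ qe l h := by simp [pe, qe, Fin.ext_iff]; omega

/-- The torus at the forked end. -/
noncomputable def hS : Fˣ →* Γ :=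
  (E.dsys.root (Sum.inl (pe l E.four_le)) (Sum.inr (qe l E.four_le))).comp SL2.diagHom

/-- The section of the forked end. -/
def endSec (h : 4 ≤ l) : Fin l → Bool := Function.update (fun _ => false) (qe l h) true

theorem hS_eq (v : Fˣ) : E.hS v =
    E.psi (endSec E.four_le) (dMk (SLStd.dv (pe l E.four_le) (qe l E.four_le) v) (prod_dv (pe_ne_qe E.four_le) v)) := by
  rw [← emb_diag_eq (pe_ne_qe E.four_le)]
  show E.dsys.root (Sum.inl (pe l E.four_le)) (Sum.inr (qe l E.four_le)) (SL2.diag v) = _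
  rw [E.root_eq_psi (endSec E.four_le) (a := Sum.inl (pe l E.four_le)) (b := Sum.inr (qe l E.four_le))
    (by simp [endSec, sg, Function.update_of_ne (pe_ne_qe E.four_le)]) (by simp [endSec, sg]) (pe_ne_qe E.four_le)]
  rfl

/-- The standard section. -/
def s0 (l : ℕ) : Fin l → Bool := fun _ => false

theorem gp_diff_le : E.dsys.gp DSys.IsDiff ≤ (E.psi (s0 l)).range := by
  refine (Subgroup.closure_le _).2 ?_
  rintro _ ⟨a, b, t, hab, h, rfl⟩
  rcases a with i | i <;> rcases b with j | j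
  · exact ⟨tvx i j t, (E.psi_eq_X' (s0 l) (a := Sum.inl i) (b := Sum.inl j) rfl rfl hab t).symm⟩
  · simp [DSys.IsDiff] at h
  · simp [DSys.IsDiff] at h
  · refine ⟨tvx j i (-t), ?_⟩
    show _ = E.X _ _ t
    rw [E.X_flip hab]
    exact (E.psi_eq_X' (s0 l) (a := Sum.inl j) (b := Sum.inl i) rfl rfl hab.symm _).symm

theorem root_mem_gp_diff {a b : SIdx l} (hab : supp a ≠ supp b) (h : DSys.IsDiff a b) (x : SLtwo F) :
    E.dsys.root a b x ∈ E.dsys.gp DSys.IsDiff :=
  DSys.range_le (fun t => by rw [E.dsys.root_upper hab]; exact E.dsys.X_mem_gp hab h t)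
    (fun t => by rw [E.dsys.root_lower hab]; exact E.dsys.X_mem_gp hab.symm h.symm t) ⟨x, rfl⟩

theorem tor_le : E.dsys.tor ≤ E.dsys.gp DSys.IsDiff ⊔ E.hS.range := by
  set L := E.dsys.gp DSys.IsDiff ⊔ E.hS.range
  have hmove : ∀ (x y i j : Fin l), x ≠ y → i ≠ j →
      (∀ v : Fˣ, E.dsys.root (Sum.inl i) (Sum.inr j) (SL2.diag v) ∈ L) →
      ∀ v : Fˣ, E.dsys.root (Sum.inl (Equiv.swap x y i)) (Sum.inr (Equiv.swap x y j)) (SL2.diag v) ∈ L := by
    intro x y i j hxy hij h v
    have hv : supp (Sum.inl i : SIdx l) ≠ supp (Sum.inr j : SIdx l) := hij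
    have hw : supp (Sum.inl x : SIdx l) ≠ supp (Sum.inl y : SIdx l) := hxy
    obtain ⟨s, hs⟩ := DSys.Scl.conj_root E.dsys (E.dsys.conj_weyl hw hv) hv (DSys.valid_refl hw hv)
    have e := hs (SL2.diag v)
    rw [DSys.sc2_diag, DSys.refl_diff hxy, DSys.refl_diff hxy, Sum.map_inl, Sum.map_inr] at e
    rw [← e]
    have hm : E.dsys.root (Sum.inl x) (Sum.inl y) weyl ∈ L :=
      Subgroup.mem_sup_left (E.root_mem_gp_diff hw rfl weyl)
    exact mul_mem (mul_mem hm (h v)) (inv_mem hm)
  have hpq : ∀ i j : Fin l, i ≠ j → ∀ v : Fˣ, E.dsys.root (Sum.inl i) (Sum.inr j) (SL2.diag v) ∈ L := by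
    intro i j hij
    have hb : ∀ v : Fˣ, E.dsys.root (Sum.inl (pe l E.four_le)) (Sum.inr (qe l E.four_le)) (SL2.diag v) ∈ L :=
      fun v => Subgroup.mem_sup_right ⟨v, rfl⟩
    set p := pe l E.four_le
    set q := qe l E.four_le
    have hpq : p ≠ q := pe_ne_qe E.four_le
    have h1 : ∃ q', i ≠ q' ∧ ∀ v : Fˣ, E.dsys.root (Sum.inl i) (Sum.inr q') (SL2.diag v) ∈ L := by
      by_cases hi : p = i
      · exact ⟨q, hi ▸ hpq, hi ▸ hb⟩
      · refine ⟨Equiv.swap p i q, fun e => hpq ((Equiv.swap p i).injective (by rwa [Equiv.swap_apply_left])), ?_⟩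
        have := hmove p i p q hi hpq hb
        rwa [Equiv.swap_apply_left] at this
    obtain ⟨q', hiq, h1⟩ := h1
    by_cases hj : q' = j
    · exact hj ▸ h1
    · have := hmove q' j i q' hj hiq h1
      rwa [Equiv.swap_apply_left, Equiv.swap_apply_of_ne_of_ne hiq hij] at this
  refine (Subgroup.closure_le _).2 ?_
  rintro _ ⟨a, b, v, hab, rfl⟩
  by_cases h : DSys.IsDiff a b
  · exact Subgroup.mem_sup_left (E.root_mem_gp_diff hab h _)
  rcases a with i | i <;> rcases b with j | j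
  · exact absurd rfl h
  · exact hpq i j hab v
  · have hba : supp (Sum.inl j : SIdx l) ≠ supp (Sum.inr i : SIdx l) := fun e => hab e.symm
    obtain ⟨s, hs⟩ := DSys.Scl.conj_root E.dsys (E.dsys.conj_weyl hba hba) hba (DSys.valid_refl hba hba)
    have e := hs (SL2.diag v)
    rw [DSys.sc2_diag, DSys.refl_left hba, DSys.refl_right hba, ← map_inv, ← map_mul, ← map_mul,
      show (weyl : SLtwo F) * SL2.diag v * weyl⁻¹ = SL2.diag v⁻¹ by
        rw [mul_inv_eq_iff_eq_mul]
        apply ext_entries <;> simp [Matrix.mul_apply, Fin.sum_univ_two]] at e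
    rw [SetLike.mem_coe, ← e]
    exact hpq j i (Ne.symm hab) _
  · exact absurd rfl h

/-- A side element over a block diagonal matrix is trivial. -/
theorem side_eq_one {u x : Γ} (hu : u ∈ E.dsys.gp (DSys.IsSide true)) (hx : x ∈ E.dsys.levi)
    (h : E.proj (x * u) = 1) : u = 1 := by
  have key : ∀ g ∈ E.dsys.gp (DSys.IsSide true), ∃ N : Matrix (SIdx l) (SIdx l) F,
      (E.proj g : Matrix (SIdx l) (SIdx l) F) = 1 + N ∧ ∀ a b, ¬ DSys.IsSide true a b → N a b = 0 := by
    have one : ∀ (a b : SIdx l), supp a ≠ supp b → DSys.IsSide true a b → ∀ t : F,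
        ∃ N : Matrix (SIdx l) (SIdx l) F,
          (E.proj (E.dsys.X a b t) : Matrix (SIdx l) (SIdx l) F) = 1 + N ∧
            ∀ c d, ¬ DSys.IsSide true c d → N c d = 0 := by
      intro a b hab hs t
      refine ⟨Matrix.single a b t - Matrix.single (bar b) (bar a) t, by rw [E.proj_X a b hab, eO, add_sub_assoc],
        fun c d hcd => ?_⟩
      have n1 : ¬ (a = c ∧ b = d) := fun e => hcd (e.1 ▸ e.2 ▸ hs)
      have n2 : ¬ (bar b = c ∧ bar a = d) := fun e => hcd (e.1 ▸ e.2 ▸ DSys.isSide_flip _ _ _ hs)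
      simp [n1, n2]
    intro g hg
    induction hg using Subgroup.closure_induction'' with
    | mem x hx => obtain ⟨a, b, t, hab, hs, rfl⟩ := hx; exact one a b hab hs t
    | inv_mem x hx =>
      obtain ⟨a, b, t, hab, hs, rfl⟩ := hx
      rw [E.dsys.X_inv hab]; exact one a b hab hs _
    | one => exact ⟨0, by simp, by simp⟩
    | mul x y hx hy ihx ihy =>
      obtain ⟨N, e, hN⟩ := ihx
      obtain ⟨N', e', hN'⟩ := ihy
      refine ⟨N + N', ?_, fun a b hab => by simp [hN a b hab, hN' a b hab]⟩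
      have hz : N * N' = 0 := by
        ext a b
        rw [Matrix.mul_apply]
        refine Finset.sum_eq_zero fun k _ => ?_
        by_cases hk : DSys.IsSide true a k
        · rw [hN' k b (fun hk' => by have := hk.2; rw [hk'.1] at this; simp at this), mul_zero]
        · rw [hN a k hk, zero_mul]
      rw [map_mul, Units.val_mul, e, e', Matrix.mul_add, Matrix.add_mul, Matrix.add_mul, hz]
      simp
      abel
  obtain ⟨N, e, hN⟩ := key u hu
  have hd := E.dsys.levi_mem_diff E.proj E.proj_X hx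
  rw [Subgroup.mem_comap] at hd
  have hux : E.proj u = (E.proj x)⁻¹ := eq_inv_of_mul_eq_one_right (by rw [← map_mul, h])
  refine E.dsys.side_inj E.proj E.proj_X true hu (Units.ext ?_)
  rw [e, Units.val_one, add_eq_left]
  ext a b
  rw [Matrix.zero_apply]
  by_cases hab : DSys.IsSide true a b
  · have hnd : ¬ DSys.IsDiff a b := fun hd' => by
      have h1 := hab.1; have h2 := hab.2; rw [hd', h2] at h1; simp at h1
    have h0 := ((inv_mem hd) a b hnd).1
    rw [← hux, e, Matrix.add_apply, Matrix.one_apply_ne (fun e' => hnd (by rw [e']; rfl)), zero_add] at h0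
    exact h0
  · exact hN a b hab

/-- The involution of the kernel. -/
noncomputable def z : Γ :=
  E.dsys.root (Sum.inl (pe l E.four_le)) (Sum.inl (qe l E.four_le)) (SL2.diag (-1)) * E.hS (-1)

theorem ker_mem (hperf : commutator Γ = ⊤) {g : Γ} (hg : E.σ g = 1) :
    g = 1 ∨ ((2 : F) ≠ 0 ∧ g = E.z) := by
  have hπ : E.proj g = 1 := by simp [proj, hg]
  obtain ⟨x, hx, u, hu, hgu⟩ := E.dsys.par_decomp (E.dsys.ker_le_par E.proj E.proj_X (E.gen hperf) hπ)
  have hu1 : u = 1 := E.side_eq_one hu hx (by rw [← hgu]; exact hπ)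
  rw [hu1, mul_one] at hgu
  subst hgu
  have hL : g ∈ E.dsys.gp DSys.IsDiff ⊔ E.hS.range := sup_le le_sup_left E.tor_le hx
  have hn : E.hS.range ≤ Subgroup.normalizer (E.dsys.gp DSys.IsDiff : Set Γ) := by
    rintro _ ⟨v, rfl⟩
    exact E.dsys.tor_normalizes _ (E.dsys.diag_mem_tor
      (show supp (Sum.inl (pe l E.four_le) : SIdx l) ≠ supp (Sum.inr (qe l E.four_le) : SIdx l) from pe_ne_qe E.four_le) v)
  have hL' : g ∈ ((E.dsys.gp DSys.IsDiff ⊔ E.hS.range : Subgroup Γ) : Set Γ) := hL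
  rw [Subgroup.coe_mul_of_right_le_normalizer_left _ _ hn] at hL'
  obtain ⟨m, hm, _, ⟨v, rfl⟩, rfl⟩ := hL'
  obtain ⟨A, rfl⟩ := E.gp_diff_le hm
  set p := pe l E.four_le with hp
  set q := qe l E.four_le with hq
  have hpq : p ≠ q := pe_ne_qe E.four_le
  -- the image determines `A`
  have himg : leviS (s0 l) A * leviS (endSec E.four_le) (dMk (SLStd.dv p q v) (prod_dv hpq v)) = 1 := by
    have := congrArg Subtype.val hg
    rw [map_mul, E.hS_eq, E.map_psi, E.map_psi] at this
    exact this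
  let a : Fin l → F := fun k => if k = p ∨ k = q then ((v⁻¹ : Fˣ) : F) else 1
  have hA : (A : Matrix (Fin l) (Fin l) F) = diagonal a := by
    rw [mul_eq_one_iff_eq_inv, ← map_inv, dMk_inv] at himg
    ext i j
    have h1 := (app_leviS (s0 l) A (Pi.single (Sum.inl j) 1) i).1
    rw [himg, app_leviS_dMk] at h1
    have hvec : (fun k => (Pi.single (Sum.inl j) 1 : SIdx l → F) (pt (s0 l) k)) = Pi.single j 1 := by
      funext k; simp [pt, s0, Pi.single_apply]
    rw [hvec, mulVec_single_one, Matrix.col_apply] at h1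
    rw [← h1, diagonal_apply]
    show dEff (endSec E.four_le) _ (Sum.inl i) * (Pi.single (Sum.inl j) (1 : F) : SIdx l → F) (Sum.inl i) = _
    by_cases hij : i = j
    · subst hij
      rw [Pi.single_eq_same, mul_one, if_pos rfl]
      by_cases hiq : i = q
      · subst hiq; simp [dEff, endSec, sg, a, SLStd.dv, hq, hp, pe_ne_qe E.four_le, (pe_ne_qe E.four_le).symm]
      · by_cases hip : i = p
        · subst hip; simp [dEff, endSec, sg, a, SLStd.dv, ← hq, ← hp, hpq]
        · simp [dEff, endSec, sg, a, SLStd.dv, ← hq, ← hp, hiq, hip]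
    · rw [Pi.single_eq_of_ne (by simpa using hij), mul_zero, if_neg hij]
  have hdet : ((v⁻¹ : Fˣ) : F) * ((v⁻¹ : Fˣ) : F) = 1 := by
    have h := A.2
    rw [hA, det_diagonal, Finset.prod_eq_mul p q hpq (fun c _ hc => by simp [a, hc.1, hc.2]) (by simp) (by simp)] at h
    simpa [a] using h
  have hA' : A = dMk (SLStd.dv p q v) (prod_dv hpq v) := by
    have hv : ((v⁻¹ : Fˣ) : F) = (v : F) := by
      have : v⁻¹ = v := by
        rw [inv_eq_iff_mul_eq_one]
        exact inv_injective (by rw [_root_.mul_inv_rev, inv_one]; exact Units.ext hdet)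
      rw [this]
    refine sl_ext (hA.trans (congrArg diagonal (funext fun k => ?_)))
    simp only [a, SLStd.dv, hv]
    split_ifs <;> simp_all
  have hpsi : E.psi (s0 l) A = E.dsys.root (Sum.inl p) (Sum.inl q) (SL2.diag v) := by
    rw [hA', ← emb_diag_eq hpq, E.root_eq_psi (s0 l) (a := Sum.inl p) (b := Sum.inl q) rfl rfl hpq]
    rfl
  show E.psi (s0 l) A * E.hS v = 1 ∨ ((2 : F) ≠ 0 ∧ E.psi (s0 l) A * E.hS v = E.z)
  rw [hpsi]
  rcases mul_self_eq_one_iff.1 hdet with h1 | h1
  · left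
    have : v = 1 := by
      rw [← inv_inv v, show v⁻¹ = 1 from Units.ext h1, inv_one]
    rw [this, map_one, mul_one, SL2.diag_one, map_one]
  · have hv : v = -1 := by
      rw [← inv_inv v, show v⁻¹ = -1 from Units.ext h1, inv_neg, inv_one]
    by_cases h2 : (2 : F) = 0
    · left
      have : v = 1 := by rw [hv]; exact Units.ext (by rw [Units.val_neg, Units.val_one]; linear_combination -h2)
      rw [this, map_one, mul_one, SL2.diag_one, map_one]
    · exact Or.inr ⟨h2, by rw [hv]; rfl⟩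

theorem ker_le_pair (hperf : commutator Γ = ⊤) : (E.σ.ker : Set Γ) ⊆ {1, E.z} := by
  intro g hg
  rcases E.ker_mem hperf hg with h | ⟨-, h⟩
  exacts [Or.inl h, Or.inr h]

end Ext

end Cfsg.Agent.Lib.Schur.PlusRoot
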