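import Cfsg.Agent.Lib.Schur.PlusRoot.Basic
import Cfsg.Agent.Lib.Schur.LinearMult

/-!
In a central extension of `Ω⁺_{2l}(q)` the copies of `SL_l(q)` lift uniquely, and the lifted root elements
satisfy the relations of a system of root elements of type `D`.
-/

set_option autoImplicit false
set_option linter.unusedSectionVars false

namespace Cfsg.Agent.Lib.Schur.PlusRoot

open Matrix
open Cfsg.Agent.Lib.LieRecog (SIdx supp bar eO embN embN_elN DSys)
open scoped commutatorElement

universe u w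

variable {l : ℕ} {F : Type u} [Field F] [Fintype F]

/-- The hypotheses on a central extension of `Ω`. -/
structure Ext (l : ℕ) (F : Type u) [Field F] [Fintype F] (Γ : Type w) [Group Γ] where
  σ : Γ →* ↥(Om l F)
  surj : Function.Surjective σ
  central : σ.ker ≤ Subgroup.center Γ
  four_le : 4 ≤ l
  exc : ¬ (l = 4 ∧ Fintype.card F = 2)

namespace Ext

variable {Γ : Type w} [Group Γ] (E : Ext l F Γ)

include E in
theorem three_le : 3 ≤ l := le_trans (by norm_num) E.four_le

theorem exists_psi (s : Fin l → Bool) :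
    ∃ f : SpecialLinearGroup (Fin l) F →* Γ, ∀ A, E.σ (f A) = phi E.three_le s A := by
  have h4 := E.four_le
  have hexc : (l, Fintype.card F) ∉ ({(2, 4), (2, 9), (3, 2), (3, 4), (4, 2)} : Set (ℕ × ℕ)) := by
    simp only [Set.mem_insert_iff, Set.mem_singleton_iff, Prod.mk.injEq, not_or]
    exact ⟨by omega, by omega, by omega, by omega, E.exc⟩
  have hperf : Group.IsPerfect (SpecialLinearGroup (Fin l) F) :=
    ⟨LinGroup.commutator_SL_fin_eq_top (by omega) (by omega)⟩
  obtain ⟨η, hη⟩ := exists_lift_of_trivial hperf (hasCyclicSchurMultiplier_SL (by omega) hexc)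
    (phi E.three_le s) E.σ E.surj E.central
  exact ⟨η, fun A => DFunLike.congr_fun hη A⟩

/-- The lift of the copy of `SL_l` at a section. -/
noncomputable def psi (s : Fin l → Bool) : SpecialLinearGroup (Fin l) F →* Γ := (E.exists_psi s).choose

theorem map_psi (s : Fin l → Bool) (A : SpecialLinearGroup (Fin l) F) :
    E.σ (E.psi s A) = phi E.three_le s A := (E.exists_psi s).choose_spec A

/-- The commutator of lifts. -/
noncomputable def cbr (g h : ↥(Om l F)) : Γ := ⁅Function.surjInv E.surj g, Function.surjInv E.surj h⁆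

theorem comm_eq_cbr (x y : Γ) : ⁅x, y⁆ = E.cbr (E.σ x) (E.σ y) := by
  have h' := commutatorElement_mul_central (Function.surjInv E.surj (E.σ x)) (Function.surjInv E.surj (E.σ y))
    (a := (Function.surjInv E.surj (E.σ x))⁻¹ * x) (b := (Function.surjInv E.surj (E.σ y))⁻¹ * y)
    (E.central (by simp [Function.surjInv_eq E.surj])) (E.central (by simp [Function.surjInv_eq E.surj]))
  rwa [mul_inv_cancel_left, mul_inv_cancel_left] at h'

theorem psi_tvx_cbr (s : Fin l → Bool) {i j k : Fin l} (hij : i ≠ j) (hik : i ≠ k) (hkj : k ≠ j) (t : F) :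
    E.psi s (tvx i j t) =
      E.cbr (UO E.three_le (pt s i) (pt s k) t) (UO E.three_le (pt s k) (pt s j) 1) := by
  rw [← phi_tvx E.three_le s hik, ← phi_tvx E.three_le s hkj, ← E.map_psi, ← E.map_psi, ← E.comm_eq_cbr,
    ← map_commutatorElement, tvx_commutator hik hkj hij, mul_one]

include E in
theorem exists_fourth (i j k : Fin l) : ∃ m : Fin l, m ≠ i ∧ m ≠ j ∧ m ≠ k := by
  obtain ⟨m, hm⟩ : ∃ m : Fin l, m ∉ ({i, j, k} : Finset (Fin l)) := by
    by_contra h
    push Not at h
    have h1 := Finset.card_le_card (show (Finset.univ : Finset (Fin l)) ⊆ {i, j, k} from fun x _ => h x)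
    have h2 : ({i, j, k} : Finset (Fin l)).card ≤ 3 := Finset.card_le_three
    have := E.four_le
    rw [Finset.card_univ, Fintype.card_fin] at h1
    omega
  simp only [Finset.mem_insert, Finset.mem_singleton, not_or] at hm
  exact ⟨m, hm⟩

theorem psi_agree_step {s s' : Fin l → Bool} {i j k : Fin l} (hij : i ≠ j) (hik : i ≠ k) (hkj : k ≠ j)
    (hi : s i = s' i) (hj : s j = s' j) (hk : s k = s' k) (t : F) :
    E.psi s (tvx i j t) = E.psi s' (tvx i j t) := by
  rw [E.psi_tvx_cbr s hij hik hkj, E.psi_tvx_cbr s' hij hik hkj, pt_congr hi, pt_congr hj, pt_congr hk]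

/-- The lift of a root element does not depend on the section. -/
theorem psi_agree {s s' : Fin l → Bool} {i j : Fin l} (hij : i ≠ j) (hi : s i = s' i) (hj : s j = s' j) (t : F) :
    E.psi s (tvx i j t) = E.psi s' (tvx i j t) := by
  obtain ⟨k, hki, hkj, -⟩ := E.exists_fourth i j j
  obtain ⟨m, hmi, hmj, hmk⟩ := E.exists_fourth i j k
  refine (E.psi_agree_step (s' := Function.update s m (s' m)) hij hki.symm hkj ?_ ?_ ?_ t).trans
    (E.psi_agree_step hij hmi.symm hmj ?_ ?_ ?_ t)
  · rw [Function.update_of_ne hmi.symm]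
  · rw [Function.update_of_ne hmj.symm]
  · rw [Function.update_of_ne hmk.symm]
  · rw [Function.update_of_ne hmi.symm, hi]
  · rw [Function.update_of_ne hmj.symm, hj]
  · rw [Function.update_self]

/-- The lifted root element. -/
noncomputable def X (a b : SIdx l) (t : F) : Γ := E.psi (sec2 a b) (tvx (supp a) (supp b) t)

theorem psi_eq_X (s : Fin l → Bool) {i j : Fin l} (h : i ≠ j) (t : F) :
    E.psi s (tvx i j t) = E.X (pt s i) (pt s j) t := by
  have e : ∀ m, sec2 (pt s i) (pt s j) m = s m ∨ (m ≠ i ∧ m ≠ j) := fun m => by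
    unfold sec2
    simp only [supp_pt, sg_pt]
    by_cases hmi : m = i
    · subst hmi; exact Or.inl (Function.update_self ..)
    by_cases hmj : m = j
    · subst hmj; exact Or.inl (by rw [Function.update_of_ne h.symm, Function.update_self])
    exact Or.inr ⟨hmi, hmj⟩
  rw [X, supp_pt, supp_pt]
  exact E.psi_agree h ((e i).resolve_right fun h' => h'.1 rfl).symm
    ((e j).resolve_right fun h' => h'.2 rfl).symm t

theorem psi_eq_X' (s : Fin l → Bool) {a b : SIdx l} (ha : s (supp a) = sg a) (hb : s (supp b) = sg b)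
    (h : supp a ≠ supp b) (t : F) : E.X a b t = E.psi s (tvx (supp a) (supp b) t) := by
  rw [E.psi_eq_X s h, pt_eq ha, pt_eq hb]

theorem map_X {a b : SIdx l} (h : supp a ≠ supp b) (t : F) : E.σ (E.X a b t) = UO E.three_le a b t := by
  rw [X, E.map_psi, phi_tvx _ _ h, sec2_left, sec2_right h]

/-- A section through four signed indices. -/
def sec4 (a b c d : SIdx l) : Fin l → Bool :=
  Function.update (Function.update (Function.update (fun _ => sg d) (supp c) (sg c)) (supp b) (sg b)) (supp a) (sg a)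

theorem sec4_spec {a b c d : SIdx l} (hab : supp a ≠ supp b) (hac : supp a ≠ supp c) (had : supp a ≠ supp d)
    (hbc : supp b ≠ supp c) (hbd : supp b ≠ supp d) (hcd : supp c ≠ supp d) :
    sec4 a b c d (supp a) = sg a ∧ sec4 a b c d (supp b) = sg b ∧ sec4 a b c d (supp c) = sg c ∧
      sec4 a b c d (supp d) = sg d := by
  unfold sec4
  refine ⟨Function.update_self .., ?_, ?_, ?_⟩
  · rw [Function.update_of_ne hab.symm, Function.update_self]
  · rw [Function.update_of_ne hac.symm, Function.update_of_ne hbc.symm, Function.update_self]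
  · rw [Function.update_of_ne had.symm, Function.update_of_ne hbd.symm, Function.update_of_ne hcd.symm]

theorem X_disj {a b c d : SIdx l} (hab : supp a ≠ supp b) (hcd : supp c ≠ supp d) (hac : supp a ≠ supp c)
    (had : supp a ≠ supp d) (hbc : supp b ≠ supp c) (hbd : supp b ≠ supp d) (s t : F) :
    Commute (E.X a b s) (E.X c d t) := by
  obtain ⟨h1, h2, h3, h4⟩ := sec4_spec hab hac had hbc hbd hcd
  rw [E.psi_eq_X' _ h1 h2 hab, E.psi_eq_X' _ h3 h4 hcd]
  exact (tvx_commute hab hcd hbc had.symm s t).map (E.psi _)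

include E in
theorem exists_third' (a b : SIdx l) : ∃ c : SIdx l, supp c ≠ supp a ∧ supp c ≠ supp b := by
  obtain ⟨k, hka, hkb, -⟩ := E.exists_fourth (supp a) (supp b) (supp b)
  exact ⟨Sum.inl k, hka, hkb⟩

include E in
/-- A section through three signed indices. -/
theorem exists_sec3 {a b c : SIdx l} (hab : supp a ≠ supp b) (hac : supp a ≠ supp c) (hbc : supp b ≠ supp c) :
    ∃ s : Fin l → Bool, s (supp a) = sg a ∧ s (supp b) = sg b ∧ s (supp c) = sg c := by
  obtain ⟨k, hka, hkb, hkc⟩ := E.exists_fourth (supp a) (supp b) (supp c)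
  obtain ⟨h1, h2, h3, -⟩ := sec4_spec (d := Sum.inl k) hab hac hka.symm hbc hkb.symm hkc.symm
  exact ⟨_, h1, h2, h3⟩

theorem X_comm_left {a b c : SIdx l} (hab : supp a ≠ supp b) (hac : supp a ≠ supp c) (hbc : supp b ≠ supp c)
    (s t : F) : Commute (E.X a b s) (E.X a c t) := by
  obtain ⟨S, h1, h2, h3⟩ := E.exists_sec3 hab hac hbc
  rw [E.psi_eq_X' S h1 h2 hab, E.psi_eq_X' S h1 h3 hac]
  exact (tvx_commute hab hac hab.symm hac.symm s t).map (E.psi S)

theorem X_comm_right {a b c : SIdx l} (hac : supp a ≠ supp c) (hbc : supp b ≠ supp c) (hab : supp a ≠ supp b)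
    (s t : F) : Commute (E.X a c s) (E.X b c t) := by
  obtain ⟨S, h1, h2, h3⟩ := E.exists_sec3 hab hac hbc
  rw [E.psi_eq_X' S h1 h3 hac, E.psi_eq_X' S h2 h3 hbc]
  exact (tvx_commute hac hbc hbc.symm hac.symm s t).map (E.psi S)

theorem X_commutator {a b c : SIdx l} (hab : supp a ≠ supp b) (hbc : supp b ≠ supp c) (hac : supp a ≠ supp c)
    (s t : F) : ⁅E.X a b s, E.X b c t⁆ = E.X a c (s * t) := by
  obtain ⟨S, h1, h2, h3⟩ := E.exists_sec3 hab hac hbc
  rw [E.psi_eq_X' S h1 h2 hab, E.psi_eq_X' S h2 h3 hbc, E.psi_eq_X' S h1 h3 hac, ← map_commutatorElement,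
    tvx_commutator hab hbc hac]

theorem X_inv {a b : SIdx l} (h : supp a ≠ supp b) (t : F) : (E.X a b t)⁻¹ = E.X a b (-t) := by
  rw [X, ← map_inv, tvx_inv h]; rfl

theorem X_flip {a b : SIdx l} (h : supp a ≠ supp b) (t : F) : E.X a b t = E.X (bar b) (bar a) (-t) := by
  obtain ⟨c, hca, hcb⟩ := E.exists_third' a b
  have hba : supp (bar b) ≠ supp (bar a) := by simpa using h.symm
  have hbc : supp (bar b) ≠ supp (bar c) := by simpa using hcb.symm
  have hcb' : supp (bar c) ≠ supp (bar a) := by simpa using hca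
  have h1 : E.X (bar b) (bar a) (-t) = ⁅E.X (bar b) (bar c) (-t), E.X (bar c) (bar a) 1⁆ := by
    rw [E.X_commutator hbc hcb' hba, mul_one]
  rw [h1, E.comm_eq_cbr, E.map_X hbc, E.map_X hcb',
    show UO E.three_le (bar b) (bar c) (-t) = UO E.three_le c b t from Subtype.ext (U_flip hcb t),
    show UO E.three_le (bar c) (bar a) (1 : F) = UO E.three_le a c (-1) from Subtype.ext (by
      show U (bar c) (bar a) (1 : F) = U a c (-1)
      rw [← U_flip hca.symm (-1 : F), neg_neg]),
    ← E.map_X hcb, ← E.map_X hca.symm, ← E.comm_eq_cbr, ← commutatorElement_inv,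
    E.X_commutator hca.symm hcb h, E.X_inv h, neg_mul, one_mul, neg_neg]

theorem X_orth {a b : SIdx l} (hab : supp a ≠ supp b) (s t : F) :
    Commute (E.X a b s) (E.X a (bar b) t) := by
  obtain ⟨c, hca, hcb⟩ := E.exists_third' a b
  have hab' : supp a ≠ supp (bar b) := by simpa using hab
  have hcb' : supp c ≠ supp (bar b) := by simpa using hcb
  obtain ⟨u, hu⟩ : ∃ u, u = E.X a c 1 := ⟨_, rfl⟩
  obtain ⟨z, hz⟩ : ∃ z, z = E.X c b s := ⟨_, rfl⟩
  obtain ⟨z', hz'⟩ : ∃ z', z' = E.X c (bar b) t := ⟨_, rfl⟩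
  obtain ⟨A, hA⟩ : ∃ A, A = E.X a b s := ⟨_, rfl⟩
  obtain ⟨A', hA'⟩ : ∃ A', A' = E.X a (bar b) t := ⟨_, rfl⟩
  rw [← hA, ← hA']
  have hκ : ⁅z, z'⁆ ∈ Subgroup.center Γ := E.central (by
    rw [MonoidHom.mem_ker, map_commutatorElement, hz, hz', E.map_X hcb, E.map_X hcb',
      commutatorElement_eq_one_iff_mul_comm]
    exact Subtype.ext (U_orth hcb s t).eq)
  have huz : u * z * u⁻¹ = A * z := by
    have := E.X_commutator hca.symm hcb hab 1 s
    rw [one_mul, commutatorElement_def, mul_inv_eq_iff_eq_mul] at this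
    rw [hu, hz, hA]; exact this
  have huz' : u * z' * u⁻¹ = A' * z' := by
    have := E.X_commutator hca.symm hcb' hab' 1 t
    rw [one_mul, commutatorElement_def, mul_inv_eq_iff_eq_mul] at this
    rw [hu, hz', hA']; exact this
  have hca' : supp c ≠ supp (bar a) := by simpa using hca
  have hba' : supp b ≠ supp (bar a) := by simpa using hab.symm
  have hac' : supp a ≠ supp (bar c) := by simpa using hca.symm
  have hbc' : supp b ≠ supp (bar c) := by simpa using hcb.symm
  obtain ⟨C, hC⟩ : ∃ C, C = E.X c (bar a) (s * -t) := ⟨_, rfl⟩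
  have hzA' : z * A' = C * A' * z := by
    have h0 := E.X_commutator hcb hba' hca' s (-t)
    rw [← hC, show E.X b (bar a) (-t) = A' by rw [hA', E.X_flip hab' t]; simp [bar], ← hz,
      commutatorElement_def, mul_inv_eq_iff_eq_mul, mul_inv_eq_iff_eq_mul] at h0
    exact h0
  have hAz' : A * z' = C⁻¹ * z' * A := by
    have h0 := E.X_commutator hab hbc' hac' s (-t)
    rw [show E.X b (bar c) (-t) = z' by rw [hz', E.X_flip hcb' t]; simp [bar], ← hA,
      show E.X a (bar c) (s * -t) = C⁻¹ by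
        rw [hC, E.X_inv hca', E.X_flip hac']; simp [bar],
      commutatorElement_def, mul_inv_eq_iff_eq_mul, mul_inv_eq_iff_eq_mul] at h0
    exact h0
  have hCA : Commute C A := by
    rw [hC, hA, E.X_flip hca']
    simp only [bar, Sum.swap_swap]
    exact (E.X_comm_left hab (by simpa using hca.symm) (by simpa using hcb.symm) _ _).symm
  have hCA' : Commute C A' := by
    rw [hC, hA', E.X_flip hca']
    simp only [bar, Sum.swap_swap]
    exact (E.X_comm_left (b := bar b) (c := bar c) hab' (by simpa using hca.symm) (by simpa using hcb.symm) _ _).symm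
  -- conjugate the central commutator by `u`
  have key : ⁅A * z, A' * z'⁆ = ⁅z, z'⁆ := by
    rw [← huz, ← huz',
      show ⁅u * z * u⁻¹, u * z' * u⁻¹⁆ = u * ⁅z, z'⁆ * u⁻¹ by simp only [commutatorElement_def]; group,
      Subgroup.mem_center_iff.1 hκ u, mul_inv_cancel_right]
  obtain ⟨κ, hκdef⟩ : ∃ κ, κ = ⁅z, z'⁆ := ⟨_, rfl⟩
  rw [← hκdef] at key hκ
  have hκc : ∀ g, Commute κ g := fun g => (Subgroup.mem_center_iff.1 hκ g).symm
  have hzz : z * z' = κ * z' * z := by rw [hκdef, commutatorElement_def]; group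
  have e1 : z' * A⁻¹ = A⁻¹ * C⁻¹ * z' := by
    calc z' * A⁻¹ = A⁻¹ * (A * z') * A⁻¹ := by group
      _ = A⁻¹ * C⁻¹ * z' := by rw [hAz']; group
  have e2 : ⁅A * z, A' * z'⁆ = κ * ⁅A, A'⁆ := by
    calc ⁅A * z, A' * z'⁆ = A * (z * A') * z' * z⁻¹ * A⁻¹ * z'⁻¹ * A'⁻¹ := by
          rw [commutatorElement_def]; group
      _ = A * C * A' * (z * z') * z⁻¹ * A⁻¹ * z'⁻¹ * A'⁻¹ := by rw [hzA']; group
      _ = A * C * A' * (κ * z') * A⁻¹ * z'⁻¹ * A'⁻¹ := by rw [hzz]; group
      _ = κ * (A * C * A') * (z' * A⁻¹) * z'⁻¹ * A'⁻¹ := by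
          rw [← mul_assoc (A * C * A') κ z', ← (hκc (A * C * A')).eq]; group
      _ = κ * (C * (A * A')) * A⁻¹ * C⁻¹ * A'⁻¹ := by
          rw [e1, show A * C * A' = C * (A * A') by rw [← hCA.eq, mul_assoc]]; group
      _ = κ * (A * A' * C) * A⁻¹ * C⁻¹ * A'⁻¹ := by rw [((hCA.mul_right hCA')).eq]
      _ = κ * (A * A') * (C * A⁻¹) * C⁻¹ * A'⁻¹ := by group
      _ = κ * ⁅A, A'⁆ := by rw [hCA.inv_right.eq, commutatorElement_def]; group
  rw [e2, mul_eq_left, commutatorElement_eq_one_iff_mul_comm] at key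
  exact key

/-- The lifted root elements form a system of type `D`. -/
noncomputable def dsys : DSys l F Γ where
  X := E.X
  four_le := E.four_le
  flipX _ _ h t := E.X_flip h t
  triple f hf := by
    obtain ⟨S, h1, h2, h3⟩ := E.exists_sec3 (a := f 0) (b := f 1) (c := f 2) (hf.ne (by decide))
      (hf.ne (by decide)) (hf.ne (by decide))
    have hS : ∀ i, S (supp (f i)) = sg (f i) := fun i => by fin_cases i <;> assumption
    refine ⟨(E.psi S).comp (embN hf), fun i j hij t => ?_⟩
    rw [MonoidHom.comp_apply, embN_elN hf hij, ← tvx_eq_elN (hf.ne hij), E.psi_eq_X' S (hS i) (hS j) (hf.ne hij)]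
    rfl
  disj _ _ _ _ h1 h2 h3 h4 h5 h6 s t := E.X_disj h1 h2 h3 h4 h5 h6 s t
  orth _ _ h s t := E.X_orth h s t

/-- The projection to matrices. -/
noncomputable def proj : Γ →* GL (SIdx l) F := ((O l F).subtype.comp (Om l F).subtype).comp E.σ

theorem proj_X (a b : SIdx l) (h : supp a ≠ supp b) (t : F) :
    (E.proj (E.dsys.X a b t) : Matrix (SIdx l) (SIdx l) F) = eO a b t := by
  show ((E.σ (E.X a b t)).1.1 : Matrix (SIdx l) (SIdx l) F) = _
  rw [E.map_X h]
  exact (congrArg Units.val (coe_U h t)).trans (Cfsg.Agent.Lib.LieRecog.coe_xO h t)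

theorem gen (hperf : commutator Γ = ⊤) : E.dsys.gp (fun _ _ => True) = ⊤ := by
  set K := E.dsys.gp (fun _ _ => True) with hK
  have hsurj : ∀ g : ↥(Om l F), ∃ x ∈ K, E.σ x = g := by
    intro g
    have h : g ∈ Subgroup.closure {x : ↥(Om l F) | ∃ a b t, supp a ≠ supp b ∧ x = UO E.three_le a b t} := by
      rw [closure_UO E.three_le]; exact Subgroup.mem_top g
    have hle : Subgroup.closure {x : ↥(Om l F) | ∃ a b t, supp a ≠ supp b ∧ x = UO E.three_le a b t} ≤ K.map E.σ := by
      refine (Subgroup.closure_le _).2 ?_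
      rintro _ ⟨a, b, t, h, rfl⟩
      exact ⟨E.X a b t, E.dsys.X_mem_gp h trivial t, E.map_X h t⟩
    exact hle h
  rw [eq_top_iff, ← hperf, commutator_def, Subgroup.commutator_le]
  intro x _ y _
  obtain ⟨x', hx, ex⟩ := hsurj (E.σ x)
  obtain ⟨y', hy, ey⟩ := hsurj (E.σ y)
  rw [E.comm_eq_cbr, ← ex, ← ey, ← E.comm_eq_cbr, commutatorElement_def]
  exact mul_mem (mul_mem (mul_mem hx hy) (inv_mem hx)) (inv_mem hy)

end Ext

end Cfsg.Agent.Lib.Schur.PlusRoot
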