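import Cfsg.Agent.Lib.Schur.PlusRoot.Kernel
import Cfsg.Agent.Lib.Schur.OrthSpin
import Cfsg.Agent.Lib.POmegaTriality.Count
import Mathlib.GroupTheory.SpecificGroups.KleinFour

/-!
The Schur multiplier of `PΩ⁺_{2l}(q)`: the preimage of the centre in the universal cover of `Ω⁺_{2l}(q)`.
-/

set_option autoImplicit false
set_option linter.unusedSectionVars false

namespace Cfsg.Agent.Lib.Schur.PlusRoot

open Matrix
open Cfsg.Agent.Lib.Orth (app app_one app_mul isometry_ext)
open Cfsg.Agent.Lib.LieRecog (SIdx supp bar eO DSys)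
open Cfsg.Agent.Lib.SL2
open Cfsg.Agent.Lib.BoundedPresentation
open scoped commutatorElement

universe u w

variable {l : ℕ} {F : Type u} [Field F] [Fintype F]

theorem perfect_Om (hl : 3 ≤ l) : Group.IsPerfect ↥(Om l F) := by
  refine ⟨?_⟩
  rw [eq_top_iff, ← closure_UO hl]
  refine (Subgroup.closure_le _).2 ?_
  rintro _ ⟨a, b, t, h, rfl⟩
  have e := phi_tvx hl (sec2 a b) h t
  rw [sec2_left, sec2_right h] at e
  have h1 : tvx (supp a) (supp b) t ∈ commutator (SpecialLinearGroup (Fin l) F) := by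
    rw [LinGroup.commutator_SL_fin_eq_top (by omega) (by omega)]; exact Subgroup.mem_top _
  have h2 := Subgroup.mem_map_of_mem (phi hl (sec2 a b)) h1
  rw [commutator_def, Subgroup.map_commutator, e] at h2
  exact Subgroup.commutator_mono le_top le_top h2

/-- A universal cover of `Ω`. -/
theorem exists_univ (h4 : 4 ≤ l) (hexc : ¬ (l = 4 ∧ Fintype.card F = 2)) :
    ∃ (Γ : Type u) (_ : Group Γ) (_ : Finite Γ) (_ : Ext l F Γ),
      Group.IsPerfect Γ ∧ Cfsg.HasCyclicSchurMultiplier Γ 1 := by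
  obtain ⟨Γ, _, _, π, hperf, hsurj, hc, huniv⟩ :=
    exists_universal_central_extension.{u, u} (perfect_Om (F := F) (show 3 ≤ l by omega))
  exact ⟨Γ, inferInstance, inferInstance, ⟨π, hsurj, hc, h4, hexc⟩, hperf,
    trivial_of_universal hperf π hsurj hc fun X _ ξ hξ hξc => (huniv X ξ hξ hξc).exists⟩

theorem nondeg : (QuadraticMap.polarBilin (Qp l F)).Nondegenerate :=
  POmegaClass.plusForm_nondegenerate

/-- The centre of `Ω`. -/
theorem card_center (h4 : 4 ≤ l) :
    ((2 : F) = 0 → Nat.card (Subgroup.center ↥(Om l F)) = 1) ∧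
      ((2 : F) ≠ 0 → (∀ g : ↥(Om l F), ((g.1.1 : GL (SIdx l) F) : Matrix (SIdx l) (SIdx l) F) = -1 →
        Nat.card (Subgroup.center ↥(Om l F)) = 2 ∧ g ∈ Subgroup.center ↥(Om l F) ∧ g ≠ 1) ∧
      (Fintype.card F % 4 = 3 ∧ Odd l → Nat.card (Subgroup.center ↥(Om l F)) = 1)) := by
  obtain ⟨k, rfl⟩ : ∃ k, l = k + 3 := ⟨l - 3, by omega⟩
  have h := (Classical.plusModel (F := F) k).natCard_center
    (Classical.isotropicNondeg_hypTower Classical.nondeg_zero_fin k)
  refine ⟨fun h2 => h.2 (Or.inl h2), fun h2 => ⟨fun g hg => ⟨h.1 h2 ⟨g.1, g.2, hg⟩, ?_, ?_⟩, fun hc => ?_⟩⟩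
  · rw [Subgroup.mem_center_iff]
    intro x
    refine Subtype.ext (Subtype.ext (Units.ext ?_))
    show ((x.1.1 : GL (SIdx (k + 3)) F) : Matrix (SIdx (k + 3)) (SIdx (k + 3)) F) * (g.1.1 : GL (SIdx (k + 3)) F).1 =
      (g.1.1 : GL (SIdx (k + 3)) F).1 * (x.1.1 : GL (SIdx (k + 3)) F).1
    rw [hg, mul_neg, neg_mul, mul_one, one_mul]
  · intro e
    rw [e] at hg
    have := congrFun (congrFun hg (Sum.inl 0)) (Sum.inl 0)
    simp only [OneMemClass.coe_one, Units.val_one, Matrix.one_apply_eq, Matrix.neg_apply] at this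
    exact h2 (by linear_combination this)
  · refine h.2 (Or.inr fun hex => ?_)
    have hodd : Odd (Fintype.card F) := Nat.not_even_iff_odd.1 fun he => h2 (Classical.two_eq_zero_iff_even_card.2 he)
    exact (POmegaTriality.negOne_mem_plus hodd (by omega)).1 hex hc

namespace Ext

variable {Γ : Type u} [Group Γ] [Finite Γ] (E : Ext l F Γ) (hperf : Group.IsPerfect Γ)
  (htriv : Cfsg.HasCyclicSchurMultiplier Γ 1)
include E hperf htriv

theorem card_ker_one (h2 : (2 : F) = 0) : Nat.card E.σ.ker = 1 := by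
  rw [Subgroup.card_eq_one, eq_bot_iff]
  intro g hg
  rcases E.ker_mem hperf.commutator_eq_top hg with h | ⟨h, -⟩
  exacts [h, absurd h2 h]

theorem ker_odd (h2 : (2 : F) ≠ 0) : E.z ≠ 1 ∧ E.σ E.z = 1 ∧ Nat.card E.σ.ker = 2 := by
  have h4 := E.four_le
  obtain ⟨X, _, ρ, hρ, hρc, z₀, hz, hz1⟩ := OrthMult.exists_double (Q := Qp l F) h2 nondeg (by simp; omega)
  obtain ⟨η, hη⟩ := exists_lift_of_trivial hperf htriv E.σ ρ hρ hρc
  have hle : commutator X ≤ η.range := by
    rw [commutator_def, Subgroup.commutator_le]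
    intro x _ y _
    obtain ⟨a, ha⟩ := E.surj (ρ x)
    obtain ⟨b, hb⟩ := E.surj (ρ y)
    have hx : ρ (η a) = ρ x := by rw [← MonoidHom.comp_apply, hη, ha]
    have hy : ρ (η b) = ρ y := by rw [← MonoidHom.comp_apply, hη, hb]
    have h' := commutatorElement_mul_central (η a) (η b)
      (a := (η a)⁻¹ * x) (b := (η b)⁻¹ * y) (hρc (by simp [hx])) (hρc (by simp [hy]))
    rw [mul_inv_cancel_left, mul_inv_cancel_left, ← map_commutatorElement] at h'
    exact ⟨_, h'.symm⟩
  obtain ⟨g, hg⟩ := hle hz.2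
  have hσg : E.σ g = 1 := by rw [← hη, MonoidHom.comp_apply, hg]; exact hz.1
  have hg1 : g ≠ 1 := fun e => hz1 (by rw [← hg, e, map_one])
  rcases E.ker_mem hperf.commutator_eq_top hσg with h | ⟨-, h⟩
  · exact absurd h hg1
  subst h
  refine ⟨hg1, hσg, ?_⟩
  rw [← SetLike.coe_sort_coe, Nat.card_coe_set_eq,
    show (E.σ.ker : Set Γ) = {1, E.z} from Set.ext fun x =>
      ⟨fun hx => E.ker_le_pair hperf.commutator_eq_top hx, fun hx => by
        rcases hx with rfl | rfl; exacts [one_mem _, hσg]⟩,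
    Set.ncard_pair hg1.symm]

/-- The preimage of the centre. -/
def pre : Subgroup Γ := (Subgroup.center ↥(Om l F)).comap E.σ

theorem card_pre : Nat.card (pre E) = Nat.card E.σ.ker * Nat.card (Subgroup.center ↥(Om l F)) := by
  let f : ↥(pre E) →* ↥(Subgroup.center ↥(Om l F)) :=
    (E.σ.comp (pre E).subtype).codRestrict _ fun x => x.2
  have hf : Function.Surjective f := fun y => by
    obtain ⟨x, hx⟩ := E.surj y.1
    exact ⟨⟨x, show E.σ x ∈ _ by rw [hx]; exact y.2⟩, Subtype.ext hx⟩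
  rw [← Subgroup.card_mul_index f.ker, Subgroup.index_ker, MonoidHom.range_eq_top.2 hf, Subgroup.card_top]
  congr 1
  exact Nat.card_congr
    { toFun := fun x => ⟨x.1.1, congrArg Subtype.val (MonoidHom.mem_ker.1 x.2)⟩
      invFun := fun x => ⟨⟨x.1, show E.σ x.1 ∈ Subgroup.center ↥(Om l F) by
          rw [MonoidHom.mem_ker.1 x.2]; exact one_mem _⟩,
        Subtype.ext (MonoidHom.mem_ker.1 x.2)⟩
      left_inv := fun _ => rfl
      right_inv := fun _ => rfl }

/-- The multiplier of `PΩ` is the preimage of the centre. -/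
theorem hasMult {A : Type} [CommGroup A] [Finite A] (e : ↥(pre E) ≃* A) :
    Cfsg.HasSchurMultiplier (Cfsg.POmega F ⇑(Qp l F)) A := by
  let σP : Γ →* Cfsg.POmega F ⇑(Qp l F) := (QuotientGroup.mk' _).comp E.σ
  have hker : σP.ker = pre E := by
    ext x
    simp [σP, pre, QuotientGroup.eq_one_iff]
  have hsurj : Function.Surjective σP := (QuotientGroup.mk'_surjective _).comp E.surj
  have hc : σP.ker ≤ Subgroup.center Γ := by
    intro x hx
    rw [hker] at hx
    refine mem_center_of_perfect hperf fun y => E.central ?_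
    rw [MonoidHom.mem_ker, map_commutatorElement, commutatorElement_eq_one_iff_mul_comm]
    exact (Subgroup.mem_center_iff.1 hx (E.σ y)).symm
  have hstem : Cfsg.IsStemExtension σP := ⟨hsurj, hc, by rw [hperf.commutator_eq_top]; exact le_top⟩
  have hin : σP.ker ⊓ commutator Γ = pre E := by rw [hperf.commutator_eq_top, inf_top_eq, hker]
  haveI : Finite (Cfsg.POmega F ⇑(Qp l F)) := Finite.of_surjective σP hsurj
  let e' := (MulEquiv.subgroupCongr hin).trans e
  refine hasSchurMultiplier_of_bound σP hsurj hc e'.toMonoidHom e'.surjective fun Y _ τ hτ hτc => ?_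
  obtain ⟨g, hg⟩ := exists_surjection_of_trivial_middle hstem htriv τ hτ hτc
  refine (Nat.card_le_card_of_surjective g hg).trans (le_of_eq ?_)
  rw [hker]
  exact Nat.card_congr e.toEquiv

theorem hasMult_subsingleton {A : Type} [CommGroup A] [Subsingleton A] (h : Nat.card (pre E) = 1) :
    Cfsg.HasSchurMultiplier (Cfsg.POmega F ⇑(Qp l F)) A := by
  haveI : Subsingleton ↥(pre E) := (Nat.card_eq_one_iff_unique.1 h).1
  exact E.hasMult hperf htriv
    ({ toFun := fun _ => 1, invFun := fun _ => 1, left_inv := fun _ => Subsingleton.elim _ _,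
       right_inv := fun _ => Subsingleton.elim _ _, map_mul' := fun _ _ => (mul_one 1).symm } : ↥(pre E) ≃* A)

/-- Characteristic two. -/
theorem hasMult_char_two {A : Type} [CommGroup A] [Subsingleton A] (h2 : (2 : F) = 0) :
    Cfsg.HasSchurMultiplier (Cfsg.POmega F ⇑(Qp l F)) A := by
  refine E.hasMult_subsingleton hperf htriv ?_
  rw [card_pre E hperf htriv, E.card_ker_one hperf htriv h2, (card_center E.four_le).1 h2]

/-- Odd rank, `q ≡ 3` modulo 4. -/
theorem hasMult_three (h2 : (2 : F) ≠ 0) (hc : Fintype.card F % 4 = 3 ∧ Odd l) :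
    Cfsg.HasSchurMultiplier (Cfsg.POmega F ⇑(Qp l F)) (Multiplicative (ZMod 2)) := by
  haveI : Fact (Nat.Prime 2) := ⟨Nat.prime_two⟩
  refine E.hasMult hperf htriv (mulEquivOfPrimeCardEq (p := 2) ?_ (by simp))
  rw [card_pre E hperf htriv, (E.ker_odd hperf htriv h2).2.2, ((card_center E.four_le).2 h2).2 hc, mul_one]

omit hperf htriv in
theorem app_phi_psi (s : Fin l → Bool) {d : Fin l → F} (h : ∏ i, d i = 1) (v : SIdx l → F) (p : SIdx l) :
    app (E.σ (E.psi s (dMk d h))).1 v p = dEff s d p * v p := by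
  rw [E.map_psi]
  exact app_leviS_dMk s h v p

/-- Even rank. -/
theorem hasMult_even (h2 : (2 : F) ≠ 0) (hl : Even l) :
    Cfsg.HasSchurMultiplier (Cfsg.POmega F ⇑(Qp l F)) (Multiplicative (ZMod 2 × ZMod 2)) := by
  obtain ⟨hz1, hσz, hker⟩ := E.ker_odd hperf htriv h2
  have hd : ∏ _i : Fin l, (-1 : F) = 1 := by rw [Finset.prod_const, Finset.card_univ, Fintype.card_fin, hl.neg_one_pow]
  set c := E.psi (s0 l) (dMk (fun _ => -1) hd) with hcdef
  have hm : ((E.σ c).1.1 : Matrix (SIdx l) (SIdx l) F) = -1 := by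
    refine Cfsg.Agent.Lib.Orth.mat_eq fun v => funext fun p => ?_
    rw [hcdef, E.app_phi_psi, Matrix.neg_mulVec, Matrix.one_mulVec]
    simp [dEff, inv_neg]
  obtain ⟨hcard, hcen, hne⟩ := ((card_center E.four_le).2 h2).1 _ hm
  have hcc : c * c = 1 := by
    rw [hcdef, ← map_mul, dMk_mul]
    refine (congrArg (E.psi (s0 l)) (sl_ext ?_)).trans (map_one _)
    show diagonal ((fun _ => (-1 : F)) * fun _ => -1) = 1
    rw [← diagonal_one]; congr 1; funext i; simp
  have h4 : Nat.card (pre E) = 4 := by rw [card_pre E hperf htriv, hker, hcard]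
  have hzz : E.z * E.z = 1 := by
    have h : (⟨E.z, hσz⟩ : E.σ.ker) ^ 2 = 1 := by rw [← hker]; exact pow_card_eq_one'
    simpa [pow_two] using congrArg Subtype.val h
  have hzc : ∀ x, E.z * x = x * E.z := fun x => (Subgroup.mem_center_iff.1 (E.central hσz) x).symm
  have hexp : ∀ x : ↥(pre E), x ^ 2 = 1 := by
    rintro ⟨x, hx⟩
    refine Subtype.ext ?_
    show x ^ 2 = 1
    have hcenter : (Subgroup.center ↥(Om l F) : Set ↥(Om l F)) = {1, E.σ c} := by
      refine (Set.eq_of_subset_of_ncard_le (fun y hy => ?_) ?_ (Set.toFinite _)).symm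
      · rcases hy with rfl | rfl; exacts [one_mem _, hcen]
      · rw [Set.ncard_pair (Ne.symm hne), ← Nat.card_coe_set_eq, SetLike.coe_sort_coe, hcard]
    have hx' : E.σ x ∈ ({1, E.σ c} : Set ↥(Om l F)) := by rw [← hcenter]; exact hx
    have key : ∀ y, E.σ y = 1 → y * y = 1 := fun y hy => by
      rcases E.ker_mem hperf.commutator_eq_top hy with rfl | ⟨-, rfl⟩
      exacts [mul_one 1, hzz]
    rcases hx' with h | h
    · rw [pow_two]; exact key x h
    · obtain ⟨y, rfl⟩ : ∃ y, x = y * c := ⟨x * c⁻¹, by simp⟩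
      have hy : E.σ y = 1 := by rwa [Set.mem_singleton_iff, map_mul, mul_eq_right] at h
      have hyc := Subgroup.mem_center_iff.1 (E.central hy) c
      rw [pow_two, show y * c * (y * c) = y * (c * y) * c by simp [mul_assoc], hyc,
        show y * (y * c) * c = (y * y) * (c * c) by simp [mul_assoc], key y hy, hcc, mul_one]
  have : IsKleinFour ↥(pre E) := by
    refine ⟨h4, ?_⟩
    rcases (Nat.dvd_prime Nat.prime_two).1 (Monoid.exponent_dvd_of_forall_pow_eq_one hexp) with h | h
    · have := Monoid.exp_eq_one_iff.1 h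
      have h1 : Nat.card ↥(pre E) ≤ 1 := Finite.card_le_one_iff_subsingleton.2 this
      omega
    · exact h
  obtain ⟨e⟩ := IsKleinFour.nonempty_mulEquiv (G₁ := ↥(pre E)) (G₂ := Multiplicative (ZMod 2 × ZMod 2))
  exact E.hasMult hperf htriv e

/-- Odd rank, `q ≡ 1` modulo 4. -/
theorem hasMult_one (h2 : (2 : F) ≠ 0) (hl : Odd l) (hq : Fintype.card F % 4 = 1) :
    Cfsg.HasSchurMultiplier (Cfsg.POmega F ⇑(Qp l F)) (Multiplicative (ZMod 4)) := by
  obtain ⟨hz1, hσz, hker⟩ := E.ker_odd hperf htriv h2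
  obtain ⟨i₀, hi₀⟩ := (FiniteField.isSquare_neg_one_iff (F := F)).2 (by omega)
  have hi0 : i₀ ≠ 0 := fun h => by simp [h] at hi₀
  set i : Fˣ := Units.mk0 i₀ hi0 with hidef
  have hii : i * i = -1 := Units.ext (by simp [hidef, ← hi₀])
  set p := pe l E.four_le with hp
  set q := qe l E.four_le with hq'
  have hpq : p ≠ q := pe_ne_qe E.four_le
  let e : Fin l → F := fun k => if k = p then 1 else -1
  have he : ∏ k, e k = 1 := by
    rw [← Finset.mul_prod_erase _ _ (Finset.mem_univ p), Finset.prod_eq_pow_card (b := (-1 : F))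
      (fun k hk => if_neg (Finset.ne_of_mem_erase hk)), Finset.card_erase_of_mem (Finset.mem_univ p),
      Finset.card_univ, Fintype.card_fin]
    simp only [e, if_true, one_mul]
    exact (Nat.Odd.sub_odd hl odd_one).neg_one_pow
  have heinv : ∀ k, (e k)⁻¹ = e k := fun k => by simp only [e]; split_ifs <;> simp [inv_neg]
  set r1 := E.dsys.root (Sum.inl p) (Sum.inl q) (SL2.diag i) with hr1
  set r2 := E.hS i with hr2
  set r3 := E.psi (s0 l) (dMk e he) with hr3
  have hr1' : r1 = E.psi (s0 l) (dMk (SLStd.dv p q i) (prod_dv hpq i)) := by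
    rw [hr1, ← emb_diag_eq hpq, E.root_eq_psi (s0 l) (a := Sum.inl p) (b := Sum.inl q) rfl rfl hpq]
    rfl
  set c := r1 * r2 * r3 with hcdef
  have hm : ((E.σ c).1.1 : Matrix (SIdx l) (SIdx l) F) = -1 := by
    refine Cfsg.Agent.Lib.Orth.mat_eq fun v => funext fun x => ?_
    rw [hcdef, hr1', hr2, E.hS_eq, hr3, map_mul, map_mul, Subgroup.coe_mul, Subgroup.coe_mul, app_mul, app_mul,
      E.app_phi_psi, E.app_phi_psi, E.app_phi_psi, Matrix.neg_mulVec, Matrix.one_mulVec, Pi.neg_apply]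
    have hv : (i : F) * i = -1 := by rw [← Units.val_mul, hii, Units.val_neg, Units.val_one]
    have hv' : (i : F)⁻¹ * (i : F)⁻¹ = -1 := by rw [← mul_inv, hv, inv_neg, inv_one]
    have hi' : (i : F) ≠ 0 := i.ne_zero
    rcases x with k | k <;>
      (by_cases hkq : k = q
       · subst hkq
         simp [dEff, s0, endSec, sg, e, SLStd.dv, ← hp, ← hq', hpq.symm, hi']
       · by_cases hkp : k = p
         · subst hkp
           simp [dEff, s0, endSec, sg, e, SLStd.dv, ← hp, ← hq', hpq]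
           first
             | linear_combination (v (Sum.inl p)) * hv
             | linear_combination (v (Sum.inr p)) * hv'
         · simp [dEff, s0, endSec, sg, e, SLStd.dv, ← hp, ← hq', hkq, hkp, inv_neg])
  obtain ⟨hcard, hcen, hne⟩ := ((card_center E.four_le).2 h2).1 _ hm
  -- the lifted torus elements commute
  have c12 : Commute r1 r2 := E.diag_comm (show supp (Sum.inl p : SIdx l) ≠ supp (Sum.inl q : SIdx l) from hpq)
    (show supp (Sum.inl p : SIdx l) ≠ supp (Sum.inr q : SIdx l) from hpq) i i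
  have c13 : Commute r1 r3 := by rw [hr1', hr3]; exact (dMk_comm _ _).map _
  have c23 : Commute r2 r3 := by
    have hk : (E.psi (endSec E.four_le) (dMk e he))⁻¹ * r3 ∈ Subgroup.center Γ := by
      refine E.central ?_
      rw [MonoidHom.mem_ker, map_mul, map_inv, inv_mul_eq_one, hr3]
      refine Subtype.ext (isometry_ext fun v => funext fun x => ?_)
      rw [E.app_phi_psi, E.app_phi_psi]
      simp [dEff, heinv]
    rw [show r3 = E.psi (endSec E.four_le) (dMk e he) * ((E.psi (endSec E.four_le) (dMk e he))⁻¹ * r3) by simp, hr2,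
      E.hS_eq]
    exact ((dMk_comm _ _).map _).mul_right (Subgroup.mem_center_iff.1 hk _)
  have h33 : r3 * r3 = 1 := by
    rw [hr3, ← map_mul, dMk_mul]
    refine (congrArg (E.psi (s0 l)) (sl_ext ?_)).trans (map_one _)
    show diagonal (e * e) = 1
    rw [← diagonal_one]; congr 1; funext k
    simp only [Pi.mul_apply, e]; split_ifs <;> simp
  have hcc : c * c = E.z := by
    rw [hcdef, (c13.symm.mul_right c23.symm).mul_mul_mul_comm, h33, mul_one, c12.symm.mul_mul_mul_comm,
      hr1, hr2, ← map_mul, ← map_mul, SL2.diag_mul, hii]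
    rfl
  have hc4 : orderOf (⟨c, hcen⟩ : ↥(pre E)) = 4 := by
    haveI : Fact (Nat.Prime 2) := ⟨Nat.prime_two⟩
    have hzz : E.z * E.z = 1 := by
      have h : (⟨E.z, hσz⟩ : E.σ.ker) ^ 2 = 1 := by rw [← hker]; exact pow_card_eq_one'
      simpa [pow_two] using congrArg Subtype.val h
    refine (orderOf_eq_prime_pow (p := 2) (n := 1) ?_ ?_).trans (by norm_num)
    · intro h
      exact hz1 (by rw [← hcc]; simpa [pow_two] using congrArg Subtype.val h)
    · refine Subtype.ext ?_
      show c ^ 4 = 1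
      rw [show c ^ 4 = (c * c) * (c * c) by simp [pow_succ, mul_assoc], hcc, hzz]
  have h4 : Nat.card (pre E) = 4 := by rw [card_pre E hperf htriv, hker, hcard]
  haveI hcyc : IsCyclic ↥(pre E) := isCyclic_of_orderOf_eq_card _ (hc4.trans h4.symm)
  exact E.hasMult hperf htriv (mulEquivOfCyclicCardEq (h4.trans (by simp)))

end Ext

end Cfsg.Agent.Lib.Schur.PlusRoot
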